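import Cfsg.Agent.Helper28.HeP1.Data
set_option autoImplicit false
set_option maxRecDepth 1000000
namespace Cfsg.Agent.Helper28.HeP1
open Cfsg.Agent.Helper28
theorem fin_piece0 : allLtFrom (finRow tabs ptabs 61048) 0 1000 = true := by decide +kernel
theorem fin_piece1 : allLtFrom (finRow tabs ptabs 61048) 1000 1000 = true := by decide +kernel
theorem fin_piece2 : allLtFrom (finRow tabs ptabs 61048) 2000 1000 = true := by decide +kernel
theorem fin_piece3 : allLtFrom (finRow tabs ptabs 61048) 3000 1000 = true := by decide +kernel
theorem fin_piece4 : allLtFrom (finRow tabs ptabs 61048) 4000 1000 = true := by decide +kernel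
theorem fin_piece5 : allLtFrom (finRow tabs ptabs 61048) 5000 1000 = true := by decide +kernel
theorem fin_piece6 : allLtFrom (finRow tabs ptabs 61048) 6000 1000 = true := by decide +kernel
theorem fin_piece7 : allLtFrom (finRow tabs ptabs 61048) 7000 1000 = true := by decide +kernel
end Cfsg.Agent.Helper28.HeP1
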