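import Cfsg.Agent.Helper28.HeP1.Data
set_option autoImplicit false
set_option maxRecDepth 1000000
namespace Cfsg.Agent.Helper28.HeP1
open Cfsg.Agent.Helper28
theorem perm_piece_0_0 : permPieceF tabs.word letSel 0 1 0 15120 = true := by decide +kernel
theorem perm_piece_1_0 : permPieceF tabs.word letSel 1 1 0 11111 = true := by decide +kernel
theorem perm_piece_1_1 : permPieceF tabs.word letSel 1 1 11111 4009 = true := by decide +kernel
theorem perm_piece_2_0 : permPieceF tabs.word letSel 2 1 0 15120 = true := by decide +kernel
theorem perm_piece_3_0 : permPieceF tabs.word letSel 3 1 0 15120 = true := by decide +kernel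
theorem perm_piece_4_0 : permPieceF tabs.word letSel 4 1 0 15120 = true := by decide +kernel
theorem perm_piece_5_0 : permPieceF tabs.word letSel 5 1 0 11111 = true := by decide +kernel
theorem perm_piece_5_1 : permPieceF tabs.word letSel 5 1 11111 4009 = true := by decide +kernel
theorem perm_piece_6_0 : permPieceF tabs.word letSel 6 1 0 15120 = true := by decide +kernel
theorem perm_piece_7_0 : permPieceF tabs.word letSel 7 1 0 14814 = true := by decide +kernel
theorem perm_piece_7_1 : permPieceF tabs.word letSel 7 1 14814 306 = true := by decide +kernel
theorem perm_piece_8_0 : permPieceF tabs.word letSel 8 1 0 15120 = true := by decide +kernel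
theorem perm_piece_9_0 : permPieceF tabs.word letSel 9 1 0 15120 = true := by decide +kernel
theorem perm_piece_10_0 : permPieceF tabs.word letSel 10 1 0 15120 = true := by decide +kernel
end Cfsg.Agent.Helper28.HeP1
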