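import Cfsg.Agent.Helper28.HeP1.Data
set_option autoImplicit false
set_option maxRecDepth 1000000
namespace Cfsg.Agent.Helper28.HeP1
open Cfsg.Agent.Helper28
theorem perm_piece_11_0 : permPieceF tabs.word letSel 11 1 0 14814 = true := by decide +kernel
theorem perm_piece_11_1 : permPieceF tabs.word letSel 11 1 14814 306 = true := by decide +kernel
theorem perm_piece_12_0 : permPieceF tabs.word letSel 12 1 0 15120 = true := by decide +kernel
theorem perm_piece_13_0 : permPieceF tabs.word letSel 13 1 0 4444 = true := by decide +kernel
theorem perm_piece_13_1 : permPieceF tabs.word letSel 13 1 4444 4444 = true := by decide +kernel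
theorem perm_piece_13_2 : permPieceF tabs.word letSel 13 1 8888 4444 = true := by decide +kernel
theorem perm_piece_13_3 : permPieceF tabs.word letSel 13 1 13332 1788 = true := by decide +kernel
theorem perm_piece_14_0 : permPieceF tabs.word letSel 14 1 0 15120 = true := by decide +kernel
theorem perm_piece_15_0 : permPieceF tabs.word letSel 15 1 0 15120 = true := by decide +kernel
theorem perm_piece_16_0 : permPieceF tabs.word letSel 16 1 0 15120 = true := by decide +kernel
theorem perm_piece_17_0 : permPieceF tabs.word letSel 17 1 0 4444 = true := by decide +kernel
end Cfsg.Agent.Helper28.HeP1
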