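import Cfsg.Agent.Helper28.HeP1.Data
set_option autoImplicit false
set_option maxRecDepth 1000000
namespace Cfsg.Agent.Helper28.HeP1
open Cfsg.Agent.Helper28
theorem perm_piece_25_1 : permPieceF tabs.word letSel 25 1 8888 6232 = true := by decide +kernel
theorem perm_piece_26_0 : permPieceF tabs.word letSel 26 1 0 8080 = true := by decide +kernel
theorem perm_piece_26_1 : permPieceF tabs.word letSel 26 1 8080 7040 = true := by decide +kernel
end Cfsg.Agent.Helper28.HeP1
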