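import Cfsg.Agent.Helper28.HeP1.F0
import Cfsg.Agent.Helper28.HeP1.F1
import Cfsg.Agent.Helper28.HeP1.Fin0
import Cfsg.Agent.Helper28.HeP1.Fin1
import Cfsg.Agent.Helper28.HeP1.Inv0
import Cfsg.Agent.Helper28.HeP1.Misc0
import Cfsg.Agent.Helper28.HeP1.P0
import Cfsg.Agent.Helper28.HeP1.P1
import Cfsg.Agent.Helper28.HeP1.P2
import Cfsg.Agent.Helper28.HeP1.P3
set_option autoImplicit false
namespace Cfsg.Agent.Helper28.HeP1
open Cfsg.Agent.Helper28
theorem fin_upto0 : allLt (finRow tabs ptabs 61048) 1000 = true :=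
  allLt_extend _ 0 1000 1000 rfl (allLt_zero _) fin_piece0
theorem fin_upto1 : allLt (finRow tabs ptabs 61048) 2000 = true :=
  allLt_extend _ 1000 1000 2000 rfl fin_upto0 fin_piece1
theorem fin_upto2 : allLt (finRow tabs ptabs 61048) 3000 = true :=
  allLt_extend _ 2000 1000 3000 rfl fin_upto1 fin_piece2
theorem fin_upto3 : allLt (finRow tabs ptabs 61048) 4000 = true :=
  allLt_extend _ 3000 1000 4000 rfl fin_upto2 fin_piece3
theorem fin_upto4 : allLt (finRow tabs ptabs 61048) 5000 = true :=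
  allLt_extend _ 4000 1000 5000 rfl fin_upto3 fin_piece4
theorem fin_upto5 : allLt (finRow tabs ptabs 61048) 6000 = true :=
  allLt_extend _ 5000 1000 6000 rfl fin_upto4 fin_piece5
theorem fin_upto6 : allLt (finRow tabs ptabs 61048) 7000 = true :=
  allLt_extend _ 6000 1000 7000 rfl fin_upto5 fin_piece6
theorem fin_upto7 : allLt (finRow tabs ptabs 61048) 8000 = true :=
  allLt_extend _ 7000 1000 8000 rfl fin_upto6 fin_piece7
theorem fin_upto8 : allLt (finRow tabs ptabs 61048) 9000 = true :=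
  allLt_extend _ 8000 1000 9000 rfl fin_upto7 fin_piece8
theorem fin_upto9 : allLt (finRow tabs ptabs 61048) 10000 = true :=
  allLt_extend _ 9000 1000 10000 rfl fin_upto8 fin_piece9
theorem fin_upto10 : allLt (finRow tabs ptabs 61048) 11000 = true :=
  allLt_extend _ 10000 1000 11000 rfl fin_upto9 fin_piece10
theorem fin_upto11 : allLt (finRow tabs ptabs 61048) 12000 = true :=
  allLt_extend _ 11000 1000 12000 rfl fin_upto10 fin_piece11
theorem fin_upto12 : allLt (finRow tabs ptabs 61048) 13000 = true :=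
  allLt_extend _ 12000 1000 13000 rfl fin_upto11 fin_piece12
theorem fin_upto13 : allLt (finRow tabs ptabs 61048) 14000 = true :=
  allLt_extend _ 13000 1000 14000 rfl fin_upto12 fin_piece13
theorem fin_upto14 : allLt (finRow tabs ptabs 61048) 15000 = true :=
  allLt_extend _ 14000 1000 15000 rfl fin_upto13 fin_piece14
theorem fin_upto15 : allLt (finRow tabs ptabs 61048) 15120 = true :=
  allLt_extend _ 15000 120 15120 rfl fin_upto14 fin_piece15
theorem fin_ok : checkFin tabs ptabs 61048 = true := (checkFin_eq tabs ptabs 61048).trans fin_upto15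
theorem inv_upto0 : allLt (invRow ptabs) 4000 = true :=
  allLt_extend _ 0 4000 4000 rfl (allLt_zero _) inv_piece0
theorem inv_upto1 : allLt (invRow ptabs) 8000 = true :=
  allLt_extend _ 4000 4000 8000 rfl inv_upto0 inv_piece1
theorem inv_upto2 : allLt (invRow ptabs) 12000 = true :=
  allLt_extend _ 8000 4000 12000 rfl inv_upto1 inv_piece2
theorem inv_upto3 : allLt (invRow ptabs) 15120 = true :=
  allLt_extend _ 12000 3120 15120 rfl inv_upto2 inv_piece3
theorem inv_ok : invOk ptabs = true := (invOk_eq ptabs).trans inv_upto3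
theorem defs_upto0 : allLt (defOk tabs) 15262 = true :=
  allLt_extend _ 0 15262 15262 rfl (allLt_zero _) defs_piece0
theorem defs_ok : checkDefs tabs = true := (checkDefs_eq tabs).trans defs_upto0
theorem par_upto0 : allLt (parRow ptabs) 15120 = true :=
  allLt_extend _ 0 15120 15120 rfl (allLt_zero _) par_piece0
theorem par_ok : parOk ptabs = true := (parOk_eq ptabs).trans par_upto0
theorem perm_g0_upto0 : TraceFix ptabs.perm tabs.word 0 1 15120 :=
  traceFix_extendF _ _ letSel perm_eq 0 1 0 15120 15120 rfl (traceFix_zero _ _ 0 1) perm_piece_0_0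
theorem perm_g0 : ∀ r, 0 ≤ r → r < 0 + 1 → relOk ptabs (tabs.word r) 0 ptabs.n = true :=
  relOk_of_traceFix ptabs tabs.word 0 1 perm_g0_upto0
theorem perm_g1_upto0 : TraceFix ptabs.perm tabs.word 1 1 11111 :=
  traceFix_extendF _ _ letSel perm_eq 1 1 0 11111 11111 rfl (traceFix_zero _ _ 1 1) perm_piece_1_0
theorem perm_g1_upto1 : TraceFix ptabs.perm tabs.word 1 1 15120 :=
  traceFix_extendF _ _ letSel perm_eq 1 1 11111 4009 15120 rfl perm_g1_upto0 perm_piece_1_1
theorem perm_g1 : ∀ r, 1 ≤ r → r < 1 + 1 → relOk ptabs (tabs.word r) 0 ptabs.n = true :=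
  relOk_of_traceFix ptabs tabs.word 1 1 perm_g1_upto1
theorem perm_g2_upto0 : TraceFix ptabs.perm tabs.word 2 1 15120 :=
  traceFix_extendF _ _ letSel perm_eq 2 1 0 15120 15120 rfl (traceFix_zero _ _ 2 1) perm_piece_2_0
theorem perm_g2 : ∀ r, 2 ≤ r → r < 2 + 1 → relOk ptabs (tabs.word r) 0 ptabs.n = true :=
  relOk_of_traceFix ptabs tabs.word 2 1 perm_g2_upto0
theorem perm_g3_upto0 : TraceFix ptabs.perm tabs.word 3 1 15120 :=
  traceFix_extendF _ _ letSel perm_eq 3 1 0 15120 15120 rfl (traceFix_zero _ _ 3 1) perm_piece_3_0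
theorem perm_g3 : ∀ r, 3 ≤ r → r < 3 + 1 → relOk ptabs (tabs.word r) 0 ptabs.n = true :=
  relOk_of_traceFix ptabs tabs.word 3 1 perm_g3_upto0
theorem perm_g4_upto0 : TraceFix ptabs.perm tabs.word 4 1 15120 :=
  traceFix_extendF _ _ letSel perm_eq 4 1 0 15120 15120 rfl (traceFix_zero _ _ 4 1) perm_piece_4_0
theorem perm_g4 : ∀ r, 4 ≤ r → r < 4 + 1 → relOk ptabs (tabs.word r) 0 ptabs.n = true :=
  relOk_of_traceFix ptabs tabs.word 4 1 perm_g4_upto0
theorem perm_g5_upto0 : TraceFix ptabs.perm tabs.word 5 1 11111 :=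
  traceFix_extendF _ _ letSel perm_eq 5 1 0 11111 11111 rfl (traceFix_zero _ _ 5 1) perm_piece_5_0
theorem perm_g5_upto1 : TraceFix ptabs.perm tabs.word 5 1 15120 :=
  traceFix_extendF _ _ letSel perm_eq 5 1 11111 4009 15120 rfl perm_g5_upto0 perm_piece_5_1
theorem perm_g5 : ∀ r, 5 ≤ r → r < 5 + 1 → relOk ptabs (tabs.word r) 0 ptabs.n = true :=
  relOk_of_traceFix ptabs tabs.word 5 1 perm_g5_upto1
theorem perm_g6_upto0 : TraceFix ptabs.perm tabs.word 6 1 15120 :=
  traceFix_extendF _ _ letSel perm_eq 6 1 0 15120 15120 rfl (traceFix_zero _ _ 6 1) perm_piece_6_0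
theorem perm_g6 : ∀ r, 6 ≤ r → r < 6 + 1 → relOk ptabs (tabs.word r) 0 ptabs.n = true :=
  relOk_of_traceFix ptabs tabs.word 6 1 perm_g6_upto0
theorem perm_g7_upto0 : TraceFix ptabs.perm tabs.word 7 1 14814 :=
  traceFix_extendF _ _ letSel perm_eq 7 1 0 14814 14814 rfl (traceFix_zero _ _ 7 1) perm_piece_7_0
theorem perm_g7_upto1 : TraceFix ptabs.perm tabs.word 7 1 15120 :=
  traceFix_extendF _ _ letSel perm_eq 7 1 14814 306 15120 rfl perm_g7_upto0 perm_piece_7_1
theorem perm_g7 : ∀ r, 7 ≤ r → r < 7 + 1 → relOk ptabs (tabs.word r) 0 ptabs.n = true :=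
  relOk_of_traceFix ptabs tabs.word 7 1 perm_g7_upto1
theorem perm_g8_upto0 : TraceFix ptabs.perm tabs.word 8 1 15120 :=
  traceFix_extendF _ _ letSel perm_eq 8 1 0 15120 15120 rfl (traceFix_zero _ _ 8 1) perm_piece_8_0
theorem perm_g8 : ∀ r, 8 ≤ r → r < 8 + 1 → relOk ptabs (tabs.word r) 0 ptabs.n = true :=
  relOk_of_traceFix ptabs tabs.word 8 1 perm_g8_upto0
theorem perm_g9_upto0 : TraceFix ptabs.perm tabs.word 9 1 15120 :=
  traceFix_extendF _ _ letSel perm_eq 9 1 0 15120 15120 rfl (traceFix_zero _ _ 9 1) perm_piece_9_0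
theorem perm_g9 : ∀ r, 9 ≤ r → r < 9 + 1 → relOk ptabs (tabs.word r) 0 ptabs.n = true :=
  relOk_of_traceFix ptabs tabs.word 9 1 perm_g9_upto0
theorem perm_g10_upto0 : TraceFix ptabs.perm tabs.word 10 1 15120 :=
  traceFix_extendF _ _ letSel perm_eq 10 1 0 15120 15120 rfl (traceFix_zero _ _ 10 1) perm_piece_10_0
theorem perm_g10 : ∀ r, 10 ≤ r → r < 10 + 1 → relOk ptabs (tabs.word r) 0 ptabs.n = true :=
  relOk_of_traceFix ptabs tabs.word 10 1 perm_g10_upto0
theorem perm_g11_upto0 : TraceFix ptabs.perm tabs.word 11 1 14814 :=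
  traceFix_extendF _ _ letSel perm_eq 11 1 0 14814 14814 rfl (traceFix_zero _ _ 11 1) perm_piece_11_0
theorem perm_g11_upto1 : TraceFix ptabs.perm tabs.word 11 1 15120 :=
  traceFix_extendF _ _ letSel perm_eq 11 1 14814 306 15120 rfl perm_g11_upto0 perm_piece_11_1
theorem perm_g11 : ∀ r, 11 ≤ r → r < 11 + 1 → relOk ptabs (tabs.word r) 0 ptabs.n = true :=
  relOk_of_traceFix ptabs tabs.word 11 1 perm_g11_upto1
theorem perm_g12_upto0 : TraceFix ptabs.perm tabs.word 12 1 15120 :=
  traceFix_extendF _ _ letSel perm_eq 12 1 0 15120 15120 rfl (traceFix_zero _ _ 12 1) perm_piece_12_0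
theorem perm_g12 : ∀ r, 12 ≤ r → r < 12 + 1 → relOk ptabs (tabs.word r) 0 ptabs.n = true :=
  relOk_of_traceFix ptabs tabs.word 12 1 perm_g12_upto0
theorem perm_g13_upto0 : TraceFix ptabs.perm tabs.word 13 1 4444 :=
  traceFix_extendF _ _ letSel perm_eq 13 1 0 4444 4444 rfl (traceFix_zero _ _ 13 1) perm_piece_13_0
theorem perm_g13_upto1 : TraceFix ptabs.perm tabs.word 13 1 8888 :=
  traceFix_extendF _ _ letSel perm_eq 13 1 4444 4444 8888 rfl perm_g13_upto0 perm_piece_13_1
theorem perm_g13_upto2 : TraceFix ptabs.perm tabs.word 13 1 13332 :=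
  traceFix_extendF _ _ letSel perm_eq 13 1 8888 4444 13332 rfl perm_g13_upto1 perm_piece_13_2
theorem perm_g13_upto3 : TraceFix ptabs.perm tabs.word 13 1 15120 :=
  traceFix_extendF _ _ letSel perm_eq 13 1 13332 1788 15120 rfl perm_g13_upto2 perm_piece_13_3
theorem perm_g13 : ∀ r, 13 ≤ r → r < 13 + 1 → relOk ptabs (tabs.word r) 0 ptabs.n = true :=
  relOk_of_traceFix ptabs tabs.word 13 1 perm_g13_upto3
theorem perm_g14_upto0 : TraceFix ptabs.perm tabs.word 14 1 15120 :=
  traceFix_extendF _ _ letSel perm_eq 14 1 0 15120 15120 rfl (traceFix_zero _ _ 14 1) perm_piece_14_0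
theorem perm_g14 : ∀ r, 14 ≤ r → r < 14 + 1 → relOk ptabs (tabs.word r) 0 ptabs.n = true :=
  relOk_of_traceFix ptabs tabs.word 14 1 perm_g14_upto0
theorem perm_g15_upto0 : TraceFix ptabs.perm tabs.word 15 1 15120 :=
  traceFix_extendF _ _ letSel perm_eq 15 1 0 15120 15120 rfl (traceFix_zero _ _ 15 1) perm_piece_15_0
theorem perm_g15 : ∀ r, 15 ≤ r → r < 15 + 1 → relOk ptabs (tabs.word r) 0 ptabs.n = true :=
  relOk_of_traceFix ptabs tabs.word 15 1 perm_g15_upto0
theorem perm_g16_upto0 : TraceFix ptabs.perm tabs.word 16 1 15120 :=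
  traceFix_extendF _ _ letSel perm_eq 16 1 0 15120 15120 rfl (traceFix_zero _ _ 16 1) perm_piece_16_0
theorem perm_g16 : ∀ r, 16 ≤ r → r < 16 + 1 → relOk ptabs (tabs.word r) 0 ptabs.n = true :=
  relOk_of_traceFix ptabs tabs.word 16 1 perm_g16_upto0
theorem perm_g17_upto0 : TraceFix ptabs.perm tabs.word 17 1 4444 :=
  traceFix_extendF _ _ letSel perm_eq 17 1 0 4444 4444 rfl (traceFix_zero _ _ 17 1) perm_piece_17_0
theorem perm_g17_upto1 : TraceFix ptabs.perm tabs.word 17 1 8888 :=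
  traceFix_extendF _ _ letSel perm_eq 17 1 4444 4444 8888 rfl perm_g17_upto0 perm_piece_17_1
theorem perm_g17_upto2 : TraceFix ptabs.perm tabs.word 17 1 13332 :=
  traceFix_extendF _ _ letSel perm_eq 17 1 8888 4444 13332 rfl perm_g17_upto1 perm_piece_17_2
theorem perm_g17_upto3 : TraceFix ptabs.perm tabs.word 17 1 15120 :=
  traceFix_extendF _ _ letSel perm_eq 17 1 13332 1788 15120 rfl perm_g17_upto2 perm_piece_17_3
theorem perm_g17 : ∀ r, 17 ≤ r → r < 17 + 1 → relOk ptabs (tabs.word r) 0 ptabs.n = true :=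
  relOk_of_traceFix ptabs tabs.word 17 1 perm_g17_upto3
theorem perm_g18_upto0 : TraceFix ptabs.perm tabs.word 18 1 15120 :=
  traceFix_extendF _ _ letSel perm_eq 18 1 0 15120 15120 rfl (traceFix_zero _ _ 18 1) perm_piece_18_0
theorem perm_g18 : ∀ r, 18 ≤ r → r < 18 + 1 → relOk ptabs (tabs.word r) 0 ptabs.n = true :=
  relOk_of_traceFix ptabs tabs.word 18 1 perm_g18_upto0
theorem perm_g19_upto0 : TraceFix ptabs.perm tabs.word 19 1 14814 :=
  traceFix_extendF _ _ letSel perm_eq 19 1 0 14814 14814 rfl (traceFix_zero _ _ 19 1) perm_piece_19_0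
theorem perm_g19_upto1 : TraceFix ptabs.perm tabs.word 19 1 15120 :=
  traceFix_extendF _ _ letSel perm_eq 19 1 14814 306 15120 rfl perm_g19_upto0 perm_piece_19_1
theorem perm_g19 : ∀ r, 19 ≤ r → r < 19 + 1 → relOk ptabs (tabs.word r) 0 ptabs.n = true :=
  relOk_of_traceFix ptabs tabs.word 19 1 perm_g19_upto1
theorem perm_g20_upto0 : TraceFix ptabs.perm tabs.word 20 1 15120 :=
  traceFix_extendF _ _ letSel perm_eq 20 1 0 15120 15120 rfl (traceFix_zero _ _ 20 1) perm_piece_20_0
theorem perm_g20 : ∀ r, 20 ≤ r → r < 20 + 1 → relOk ptabs (tabs.word r) 0 ptabs.n = true :=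
  relOk_of_traceFix ptabs tabs.word 20 1 perm_g20_upto0
theorem perm_g21_upto0 : TraceFix ptabs.perm tabs.word 21 1 15120 :=
  traceFix_extendF _ _ letSel perm_eq 21 1 0 15120 15120 rfl (traceFix_zero _ _ 21 1) perm_piece_21_0
theorem perm_g21 : ∀ r, 21 ≤ r → r < 21 + 1 → relOk ptabs (tabs.word r) 0 ptabs.n = true :=
  relOk_of_traceFix ptabs tabs.word 21 1 perm_g21_upto0
theorem perm_g22_upto0 : TraceFix ptabs.perm tabs.word 22 1 15120 :=
  traceFix_extendF _ _ letSel perm_eq 22 1 0 15120 15120 rfl (traceFix_zero _ _ 22 1) perm_piece_22_0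
theorem perm_g22 : ∀ r, 22 ≤ r → r < 22 + 1 → relOk ptabs (tabs.word r) 0 ptabs.n = true :=
  relOk_of_traceFix ptabs tabs.word 22 1 perm_g22_upto0
theorem perm_g23_upto0 : TraceFix ptabs.perm tabs.word 23 1 14814 :=
  traceFix_extendF _ _ letSel perm_eq 23 1 0 14814 14814 rfl (traceFix_zero _ _ 23 1) perm_piece_23_0
theorem perm_g23_upto1 : TraceFix ptabs.perm tabs.word 23 1 15120 :=
  traceFix_extendF _ _ letSel perm_eq 23 1 14814 306 15120 rfl perm_g23_upto0 perm_piece_23_1
theorem perm_g23 : ∀ r, 23 ≤ r → r < 23 + 1 → relOk ptabs (tabs.word r) 0 ptabs.n = true :=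
  relOk_of_traceFix ptabs tabs.word 23 1 perm_g23_upto1
theorem perm_g24_upto0 : TraceFix ptabs.perm tabs.word 24 1 15120 :=
  traceFix_extendF _ _ letSel perm_eq 24 1 0 15120 15120 rfl (traceFix_zero _ _ 24 1) perm_piece_24_0
theorem perm_g24 : ∀ r, 24 ≤ r → r < 24 + 1 → relOk ptabs (tabs.word r) 0 ptabs.n = true :=
  relOk_of_traceFix ptabs tabs.word 24 1 perm_g24_upto0
theorem perm_g25_upto0 : TraceFix ptabs.perm tabs.word 25 1 8888 :=
  traceFix_extendF _ _ letSel perm_eq 25 1 0 8888 8888 rfl (traceFix_zero _ _ 25 1) perm_piece_25_0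
theorem perm_g25_upto1 : TraceFix ptabs.perm tabs.word 25 1 15120 :=
  traceFix_extendF _ _ letSel perm_eq 25 1 8888 6232 15120 rfl perm_g25_upto0 perm_piece_25_1
theorem perm_g25 : ∀ r, 25 ≤ r → r < 25 + 1 → relOk ptabs (tabs.word r) 0 ptabs.n = true :=
  relOk_of_traceFix ptabs tabs.word 25 1 perm_g25_upto1
theorem perm_g26_upto0 : TraceFix ptabs.perm tabs.word 26 1 8080 :=
  traceFix_extendF _ _ letSel perm_eq 26 1 0 8080 8080 rfl (traceFix_zero _ _ 26 1) perm_piece_26_0
theorem perm_g26_upto1 : TraceFix ptabs.perm tabs.word 26 1 15120 :=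
  traceFix_extendF _ _ letSel perm_eq 26 1 8080 7040 15120 rfl perm_g26_upto0 perm_piece_26_1
theorem perm_g26 : ∀ r, 26 ≤ r → r < 26 + 1 → relOk ptabs (tabs.word r) 0 ptabs.n = true :=
  relOk_of_traceFix ptabs tabs.word 26 1 perm_g26_upto1
theorem perm_all : ∀ r, 0 ≤ r → r < 27 → relOk ptabs (tabs.word r) 0 ptabs.n = true := by
  intro r h1 h2
  by_cases c0 : r < 1
  · exact perm_g0 r (by omega) (by omega)
  by_cases c1 : r < 2
  · exact perm_g1 r (by omega) (by omega)
  by_cases c2 : r < 3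
  · exact perm_g2 r (by omega) (by omega)
  by_cases c3 : r < 4
  · exact perm_g3 r (by omega) (by omega)
  by_cases c4 : r < 5
  · exact perm_g4 r (by omega) (by omega)
  by_cases c5 : r < 6
  · exact perm_g5 r (by omega) (by omega)
  by_cases c6 : r < 7
  · exact perm_g6 r (by omega) (by omega)
  by_cases c7 : r < 8
  · exact perm_g7 r (by omega) (by omega)
  by_cases c8 : r < 9
  · exact perm_g8 r (by omega) (by omega)
  by_cases c9 : r < 10
  · exact perm_g9 r (by omega) (by omega)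
  by_cases c10 : r < 11
  · exact perm_g10 r (by omega) (by omega)
  by_cases c11 : r < 12
  · exact perm_g11 r (by omega) (by omega)
  by_cases c12 : r < 13
  · exact perm_g12 r (by omega) (by omega)
  by_cases c13 : r < 14
  · exact perm_g13 r (by omega) (by omega)
  by_cases c14 : r < 15
  · exact perm_g14 r (by omega) (by omega)
  by_cases c15 : r < 16
  · exact perm_g15 r (by omega) (by omega)
  by_cases c16 : r < 17
  · exact perm_g16 r (by omega) (by omega)
  by_cases c17 : r < 18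
  · exact perm_g17 r (by omega) (by omega)
  by_cases c18 : r < 19
  · exact perm_g18 r (by omega) (by omega)
  by_cases c19 : r < 20
  · exact perm_g19 r (by omega) (by omega)
  by_cases c20 : r < 21
  · exact perm_g20 r (by omega) (by omega)
  by_cases c21 : r < 22
  · exact perm_g21 r (by omega) (by omega)
  by_cases c22 : r < 23
  · exact perm_g22 r (by omega) (by omega)
  by_cases c23 : r < 24
  · exact perm_g23 r (by omega) (by omega)
  by_cases c24 : r < 25
  · exact perm_g24 r (by omega) (by omega)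
  by_cases c25 : r < 26
  · exact perm_g25 r (by omega) (by omega)
  by_cases c26 : r < 27
  · exact perm_g26 r (by omega) (by omega)
  omega
theorem subfix_all : ∀ r, r < 0 → relOk ptabs (tabs.word r) 0 1 = true := allLt_sound _ _ subfix_ok
end Cfsg.Agent.Helper28.HeP1
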