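import Cfsg.Agent.Helper28.HeP1.D0
import Cfsg.Agent.Helper28.HeP1.D1
set_option autoImplicit false
set_option maxRecDepth 1000000
namespace Cfsg.Agent.Helper28.HeP1
open Cfsg.Agent.Helper28
noncomputable def nd2 (i : Nat) : Nat := (Bool.rec (motive := fun _ => Nat) (nl0 i) ((Bool.rec (motive := fun _ => Nat) (nl1 i) (nl2 i) (Nat.ble 2048 i))) (Nat.ble 1024 i))
noncomputable def nd3 (i : Nat) : Nat := (Bool.rec (motive := fun _ => Nat) ((Bool.rec (motive := fun _ => Nat) (nl3 i) (nl4 i) (Nat.ble 4096 i))) ((Bool.rec (motive := fun _ => Nat) (nl5 i) (nl6 i) (Nat.ble 6144 i))) (Nat.ble 5120 i))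
noncomputable def nd4 (i : Nat) : Nat := (Bool.rec (motive := fun _ => Nat) ((Bool.rec (motive := fun _ => Nat) (nl7 i) (nl8 i) (Nat.ble 8192 i))) ((Bool.rec (motive := fun _ => Nat) (nl9 i) (nl10 i) (Nat.ble 10240 i))) (Nat.ble 9216 i))
noncomputable def nd5 (i : Nat) : Nat := (Bool.rec (motive := fun _ => Nat) ((Bool.rec (motive := fun _ => Nat) (nl11 i) (nl12 i) (Nat.ble 12288 i))) ((Bool.rec (motive := fun _ => Nat) (nl13 i) (nl14 i) (Nat.ble 14336 i))) (Nat.ble 13312 i))
noncomputable def nd1 (i : Nat) : Nat := (Bool.rec (motive := fun _ => Nat) ((Bool.rec (motive := fun _ => Nat) (nd2 i) (nd3 i) (Nat.ble 3072 i))) ((Bool.rec (motive := fun _ => Nat) (nd4 i) (nd5 i) (Nat.ble 11264 i))) (Nat.ble 7168 i))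
noncomputable def nd7 (i : Nat) : Nat := (Bool.rec (motive := fun _ => Nat) (nl15 i) ((Bool.rec (motive := fun _ => Nat) (nl16 i) (nl17 i) (Nat.ble 17408 i))) (Nat.ble 16384 i))
noncomputable def nd8 (i : Nat) : Nat := (Bool.rec (motive := fun _ => Nat) ((Bool.rec (motive := fun _ => Nat) (nl18 i) (nl19 i) (Nat.ble 19456 i))) ((Bool.rec (motive := fun _ => Nat) (nl20 i) (nl21 i) (Nat.ble 21504 i))) (Nat.ble 20480 i))
noncomputable def nd9 (i : Nat) : Nat := (Bool.rec (motive := fun _ => Nat) ((Bool.rec (motive := fun _ => Nat) (nl22 i) (nl23 i) (Nat.ble 23552 i))) ((Bool.rec (motive := fun _ => Nat) (nl24 i) (nl25 i) (Nat.ble 25600 i))) (Nat.ble 24576 i))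
noncomputable def nd10 (i : Nat) : Nat := (Bool.rec (motive := fun _ => Nat) ((Bool.rec (motive := fun _ => Nat) (nl26 i) (nl27 i) (Nat.ble 27648 i))) ((Bool.rec (motive := fun _ => Nat) (nl28 i) (nl29 i) (Nat.ble 29696 i))) (Nat.ble 28672 i))
noncomputable def nd6 (i : Nat) : Nat := (Bool.rec (motive := fun _ => Nat) ((Bool.rec (motive := fun _ => Nat) (nd7 i) (nd8 i) (Nat.ble 18432 i))) ((Bool.rec (motive := fun _ => Nat) (nd9 i) (nd10 i) (Nat.ble 26624 i))) (Nat.ble 22528 i))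
noncomputable def nd12 (i : Nat) : Nat := (Bool.rec (motive := fun _ => Nat) (nl30 i) ((Bool.rec (motive := fun _ => Nat) (nl31 i) (nl32 i) (Nat.ble 32768 i))) (Nat.ble 31744 i))
noncomputable def nd13 (i : Nat) : Nat := (Bool.rec (motive := fun _ => Nat) ((Bool.rec (motive := fun _ => Nat) (nl33 i) (nl34 i) (Nat.ble 34816 i))) ((Bool.rec (motive := fun _ => Nat) (nl35 i) (nl36 i) (Nat.ble 36864 i))) (Nat.ble 35840 i))
noncomputable def nd14 (i : Nat) : Nat := (Bool.rec (motive := fun _ => Nat) ((Bool.rec (motive := fun _ => Nat) (nl37 i) (nl38 i) (Nat.ble 38912 i))) ((Bool.rec (motive := fun _ => Nat) (nl39 i) (nl40 i) (Nat.ble 40960 i))) (Nat.ble 39936 i))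
noncomputable def nd15 (i : Nat) : Nat := (Bool.rec (motive := fun _ => Nat) ((Bool.rec (motive := fun _ => Nat) (nl41 i) (nl42 i) (Nat.ble 43008 i))) ((Bool.rec (motive := fun _ => Nat) (nl43 i) (nl44 i) (Nat.ble 45056 i))) (Nat.ble 44032 i))
noncomputable def nd11 (i : Nat) : Nat := (Bool.rec (motive := fun _ => Nat) ((Bool.rec (motive := fun _ => Nat) (nd12 i) (nd13 i) (Nat.ble 33792 i))) ((Bool.rec (motive := fun _ => Nat) (nd14 i) (nd15 i) (Nat.ble 41984 i))) (Nat.ble 37888 i))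
noncomputable def nd17 (i : Nat) : Nat := (Bool.rec (motive := fun _ => Nat) (nl45 i) ((Bool.rec (motive := fun _ => Nat) (nl46 i) (nl47 i) (Nat.ble 48128 i))) (Nat.ble 47104 i))
noncomputable def nd18 (i : Nat) : Nat := (Bool.rec (motive := fun _ => Nat) ((Bool.rec (motive := fun _ => Nat) (nl48 i) (nl49 i) (Nat.ble 50176 i))) ((Bool.rec (motive := fun _ => Nat) (nl50 i) (nl51 i) (Nat.ble 52224 i))) (Nat.ble 51200 i))
noncomputable def nd19 (i : Nat) : Nat := (Bool.rec (motive := fun _ => Nat) ((Bool.rec (motive := fun _ => Nat) (nl52 i) (nl53 i) (Nat.ble 54272 i))) ((Bool.rec (motive := fun _ => Nat) (nl54 i) (nl55 i) (Nat.ble 56320 i))) (Nat.ble 55296 i))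
noncomputable def nd20 (i : Nat) : Nat := (Bool.rec (motive := fun _ => Nat) ((Bool.rec (motive := fun _ => Nat) (nl56 i) (nl57 i) (Nat.ble 58368 i))) ((Bool.rec (motive := fun _ => Nat) (nl58 i) (nl59 i) (Nat.ble 60416 i))) (Nat.ble 59392 i))
noncomputable def nd16 (i : Nat) : Nat := (Bool.rec (motive := fun _ => Nat) ((Bool.rec (motive := fun _ => Nat) (nd17 i) (nd18 i) (Nat.ble 49152 i))) ((Bool.rec (motive := fun _ => Nat) (nd19 i) (nd20 i) (Nat.ble 57344 i))) (Nat.ble 53248 i))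
noncomputable def nd0 (i : Nat) : Nat := (Bool.rec (motive := fun _ => Nat) ((Bool.rec (motive := fun _ => Nat) (nd1 i) (nd6 i) (Nat.ble 15360 i))) ((Bool.rec (motive := fun _ => Nat) (nd11 i) (nd16 i) (Nat.ble 46080 i))) (Nat.ble 30720 i))
noncomputable def nd22 (i : Nat) : Nat := (Bool.rec (motive := fun _ => Nat) (nl60 i) ((Bool.rec (motive := fun _ => Nat) (nl61 i) (nl62 i) (Nat.ble 2048 i))) (Nat.ble 1024 i))
noncomputable def nd23 (i : Nat) : Nat := (Bool.rec (motive := fun _ => Nat) ((Bool.rec (motive := fun _ => Nat) (nl63 i) (nl64 i) (Nat.ble 4096 i))) ((Bool.rec (motive := fun _ => Nat) (nl65 i) (nl66 i) (Nat.ble 6144 i))) (Nat.ble 5120 i))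
noncomputable def nd24 (i : Nat) : Nat := (Bool.rec (motive := fun _ => Nat) ((Bool.rec (motive := fun _ => Nat) (nl67 i) (nl68 i) (Nat.ble 8192 i))) ((Bool.rec (motive := fun _ => Nat) (nl69 i) (nl70 i) (Nat.ble 10240 i))) (Nat.ble 9216 i))
noncomputable def nd25 (i : Nat) : Nat := (Bool.rec (motive := fun _ => Nat) ((Bool.rec (motive := fun _ => Nat) (nl71 i) (nl72 i) (Nat.ble 12288 i))) ((Bool.rec (motive := fun _ => Nat) (nl73 i) (nl74 i) (Nat.ble 14336 i))) (Nat.ble 13312 i))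
noncomputable def nd21 (i : Nat) : Nat := (Bool.rec (motive := fun _ => Nat) ((Bool.rec (motive := fun _ => Nat) (nd22 i) (nd23 i) (Nat.ble 3072 i))) ((Bool.rec (motive := fun _ => Nat) (nd24 i) (nd25 i) (Nat.ble 11264 i))) (Nat.ble 7168 i))
noncomputable def nd29 (i : Nat) : Nat := (Bool.rec (motive := fun _ => Nat) (nl75 i) (nl76 i) (Nat.ble 1024 i))
noncomputable def nd30 (i : Nat) : Nat := (Bool.rec (motive := fun _ => Nat) (nl77 i) (nl78 i) (Nat.ble 3072 i))
noncomputable def nd31 (i : Nat) : Nat := (Bool.rec (motive := fun _ => Nat) (nl79 i) (nl80 i) (Nat.ble 5120 i))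
noncomputable def nd32 (i : Nat) : Nat := (Bool.rec (motive := fun _ => Nat) (nl81 i) ((Bool.rec (motive := fun _ => Nat) (nl82 i) (nl83 i) (Nat.ble 8192 i))) (Nat.ble 7168 i))
noncomputable def nd28 (i : Nat) : Nat := (Bool.rec (motive := fun _ => Nat) ((Bool.rec (motive := fun _ => Nat) (nd29 i) (nd30 i) (Nat.ble 2048 i))) ((Bool.rec (motive := fun _ => Nat) (nd31 i) (nd32 i) (Nat.ble 6144 i))) (Nat.ble 4096 i))
noncomputable def nd34 (i : Nat) : Nat := (Bool.rec (motive := fun _ => Nat) (nl84 i) (nl85 i) (Nat.ble 10240 i))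
noncomputable def nd35 (i : Nat) : Nat := (Bool.rec (motive := fun _ => Nat) (nl86 i) (nl87 i) (Nat.ble 12288 i))
noncomputable def nd36 (i : Nat) : Nat := (Bool.rec (motive := fun _ => Nat) (nl88 i) (nl89 i) (Nat.ble 14336 i))
noncomputable def nd37 (i : Nat) : Nat := (Bool.rec (motive := fun _ => Nat) (nl90 i) ((Bool.rec (motive := fun _ => Nat) (nl91 i) (nl92 i) (Nat.ble 17408 i))) (Nat.ble 16384 i))
noncomputable def nd33 (i : Nat) : Nat := (Bool.rec (motive := fun _ => Nat) ((Bool.rec (motive := fun _ => Nat) (nd34 i) (nd35 i) (Nat.ble 11264 i))) ((Bool.rec (motive := fun _ => Nat) (nd36 i) (nd37 i) (Nat.ble 15360 i))) (Nat.ble 13312 i))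
noncomputable def nd39 (i : Nat) : Nat := (Bool.rec (motive := fun _ => Nat) (nl93 i) (nl94 i) (Nat.ble 19456 i))
noncomputable def nd40 (i : Nat) : Nat := (Bool.rec (motive := fun _ => Nat) (nl95 i) (nl96 i) (Nat.ble 21504 i))
noncomputable def nd41 (i : Nat) : Nat := (Bool.rec (motive := fun _ => Nat) (nl97 i) (nl98 i) (Nat.ble 23552 i))
noncomputable def nd42 (i : Nat) : Nat := (Bool.rec (motive := fun _ => Nat) (nl99 i) ((Bool.rec (motive := fun _ => Nat) (nl100 i) (nl101 i) (Nat.ble 26624 i))) (Nat.ble 25600 i))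
noncomputable def nd38 (i : Nat) : Nat := (Bool.rec (motive := fun _ => Nat) ((Bool.rec (motive := fun _ => Nat) (nd39 i) (nd40 i) (Nat.ble 20480 i))) ((Bool.rec (motive := fun _ => Nat) (nd41 i) (nd42 i) (Nat.ble 24576 i))) (Nat.ble 22528 i))
noncomputable def nd44 (i : Nat) : Nat := (Bool.rec (motive := fun _ => Nat) (nl102 i) (nl103 i) (Nat.ble 28672 i))
noncomputable def nd45 (i : Nat) : Nat := (Bool.rec (motive := fun _ => Nat) (nl104 i) ((Bool.rec (motive := fun _ => Nat) (nl105 i) (nl106 i) (Nat.ble 31744 i))) (Nat.ble 30720 i))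
noncomputable def nd46 (i : Nat) : Nat := (Bool.rec (motive := fun _ => Nat) (nl107 i) (nl108 i) (Nat.ble 33792 i))
noncomputable def nd47 (i : Nat) : Nat := (Bool.rec (motive := fun _ => Nat) (nl109 i) ((Bool.rec (motive := fun _ => Nat) (nl110 i) (nl111 i) (Nat.ble 36864 i))) (Nat.ble 35840 i))
noncomputable def nd43 (i : Nat) : Nat := (Bool.rec (motive := fun _ => Nat) ((Bool.rec (motive := fun _ => Nat) (nd44 i) (nd45 i) (Nat.ble 29696 i))) ((Bool.rec (motive := fun _ => Nat) (nd46 i) (nd47 i) (Nat.ble 34816 i))) (Nat.ble 32768 i))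
noncomputable def nd27 (i : Nat) : Nat := (Bool.rec (motive := fun _ => Nat) ((Bool.rec (motive := fun _ => Nat) (nd28 i) (nd33 i) (Nat.ble 9216 i))) ((Bool.rec (motive := fun _ => Nat) (nd38 i) (nd43 i) (Nat.ble 27648 i))) (Nat.ble 18432 i))
noncomputable def nd50 (i : Nat) : Nat := (Bool.rec (motive := fun _ => Nat) (nl112 i) (nl113 i) (Nat.ble 38912 i))
noncomputable def nd51 (i : Nat) : Nat := (Bool.rec (motive := fun _ => Nat) (nl114 i) (nl115 i) (Nat.ble 40960 i))
noncomputable def nd52 (i : Nat) : Nat := (Bool.rec (motive := fun _ => Nat) (nl116 i) (nl117 i) (Nat.ble 43008 i))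
noncomputable def nd53 (i : Nat) : Nat := (Bool.rec (motive := fun _ => Nat) (nl118 i) ((Bool.rec (motive := fun _ => Nat) (nl119 i) (nl120 i) (Nat.ble 46080 i))) (Nat.ble 45056 i))
noncomputable def nd49 (i : Nat) : Nat := (Bool.rec (motive := fun _ => Nat) ((Bool.rec (motive := fun _ => Nat) (nd50 i) (nd51 i) (Nat.ble 39936 i))) ((Bool.rec (motive := fun _ => Nat) (nd52 i) (nd53 i) (Nat.ble 44032 i))) (Nat.ble 41984 i))
noncomputable def nd55 (i : Nat) : Nat := (Bool.rec (motive := fun _ => Nat) (nl121 i) (nl122 i) (Nat.ble 48128 i))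
noncomputable def nd56 (i : Nat) : Nat := (Bool.rec (motive := fun _ => Nat) (nl123 i) (nl124 i) (Nat.ble 50176 i))
noncomputable def nd57 (i : Nat) : Nat := (Bool.rec (motive := fun _ => Nat) (nl125 i) (nl126 i) (Nat.ble 52224 i))
noncomputable def nd58 (i : Nat) : Nat := (Bool.rec (motive := fun _ => Nat) (nl127 i) ((Bool.rec (motive := fun _ => Nat) (nl128 i) (nl129 i) (Nat.ble 55296 i))) (Nat.ble 54272 i))
noncomputable def nd54 (i : Nat) : Nat := (Bool.rec (motive := fun _ => Nat) ((Bool.rec (motive := fun _ => Nat) (nd55 i) (nd56 i) (Nat.ble 49152 i))) ((Bool.rec (motive := fun _ => Nat) (nd57 i) (nd58 i) (Nat.ble 53248 i))) (Nat.ble 51200 i))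
noncomputable def nd60 (i : Nat) : Nat := (Bool.rec (motive := fun _ => Nat) (nl130 i) (nl131 i) (Nat.ble 57344 i))
noncomputable def nd61 (i : Nat) : Nat := (Bool.rec (motive := fun _ => Nat) (nl132 i) (nl133 i) (Nat.ble 59392 i))
noncomputable def nd62 (i : Nat) : Nat := (Bool.rec (motive := fun _ => Nat) (nl134 i) (nl135 i) (Nat.ble 61440 i))
noncomputable def nd63 (i : Nat) : Nat := (Bool.rec (motive := fun _ => Nat) (nl136 i) ((Bool.rec (motive := fun _ => Nat) (nl137 i) (nl138 i) (Nat.ble 64512 i))) (Nat.ble 63488 i))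
noncomputable def nd59 (i : Nat) : Nat := (Bool.rec (motive := fun _ => Nat) ((Bool.rec (motive := fun _ => Nat) (nd60 i) (nd61 i) (Nat.ble 58368 i))) ((Bool.rec (motive := fun _ => Nat) (nd62 i) (nd63 i) (Nat.ble 62464 i))) (Nat.ble 60416 i))
noncomputable def nd65 (i : Nat) : Nat := (Bool.rec (motive := fun _ => Nat) (nl139 i) (nl140 i) (Nat.ble 66560 i))
noncomputable def nd66 (i : Nat) : Nat := (Bool.rec (motive := fun _ => Nat) (nl141 i) ((Bool.rec (motive := fun _ => Nat) (nl142 i) (nl143 i) (Nat.ble 69632 i))) (Nat.ble 68608 i))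
noncomputable def nd67 (i : Nat) : Nat := (Bool.rec (motive := fun _ => Nat) (nl144 i) (nl145 i) (Nat.ble 71680 i))
noncomputable def nd68 (i : Nat) : Nat := (Bool.rec (motive := fun _ => Nat) (nl146 i) ((Bool.rec (motive := fun _ => Nat) (nl147 i) (nl148 i) (Nat.ble 74752 i))) (Nat.ble 73728 i))
noncomputable def nd64 (i : Nat) : Nat := (Bool.rec (motive := fun _ => Nat) ((Bool.rec (motive := fun _ => Nat) (nd65 i) (nd66 i) (Nat.ble 67584 i))) ((Bool.rec (motive := fun _ => Nat) (nd67 i) (nd68 i) (Nat.ble 72704 i))) (Nat.ble 70656 i))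
noncomputable def nd48 (i : Nat) : Nat := (Bool.rec (motive := fun _ => Nat) ((Bool.rec (motive := fun _ => Nat) (nd49 i) (nd54 i) (Nat.ble 47104 i))) ((Bool.rec (motive := fun _ => Nat) (nd59 i) (nd64 i) (Nat.ble 65536 i))) (Nat.ble 56320 i))
noncomputable def nd71 (i : Nat) : Nat := (Bool.rec (motive := fun _ => Nat) (nl149 i) (nl150 i) (Nat.ble 76800 i))
noncomputable def nd72 (i : Nat) : Nat := (Bool.rec (motive := fun _ => Nat) (nl151 i) (nl152 i) (Nat.ble 78848 i))
noncomputable def nd73 (i : Nat) : Nat := (Bool.rec (motive := fun _ => Nat) (nl153 i) (nl154 i) (Nat.ble 80896 i))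
noncomputable def nd74 (i : Nat) : Nat := (Bool.rec (motive := fun _ => Nat) (nl155 i) ((Bool.rec (motive := fun _ => Nat) (nl156 i) (nl157 i) (Nat.ble 83968 i))) (Nat.ble 82944 i))
noncomputable def nd70 (i : Nat) : Nat := (Bool.rec (motive := fun _ => Nat) ((Bool.rec (motive := fun _ => Nat) (nd71 i) (nd72 i) (Nat.ble 77824 i))) ((Bool.rec (motive := fun _ => Nat) (nd73 i) (nd74 i) (Nat.ble 81920 i))) (Nat.ble 79872 i))
noncomputable def nd76 (i : Nat) : Nat := (Bool.rec (motive := fun _ => Nat) (nl158 i) (nl159 i) (Nat.ble 86016 i))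
noncomputable def nd77 (i : Nat) : Nat := (Bool.rec (motive := fun _ => Nat) (nl160 i) (nl161 i) (Nat.ble 88064 i))
noncomputable def nd78 (i : Nat) : Nat := (Bool.rec (motive := fun _ => Nat) (nl162 i) (nl163 i) (Nat.ble 90112 i))
noncomputable def nd79 (i : Nat) : Nat := (Bool.rec (motive := fun _ => Nat) (nl164 i) ((Bool.rec (motive := fun _ => Nat) (nl165 i) (nl166 i) (Nat.ble 93184 i))) (Nat.ble 92160 i))
noncomputable def nd75 (i : Nat) : Nat := (Bool.rec (motive := fun _ => Nat) ((Bool.rec (motive := fun _ => Nat) (nd76 i) (nd77 i) (Nat.ble 87040 i))) ((Bool.rec (motive := fun _ => Nat) (nd78 i) (nd79 i) (Nat.ble 91136 i))) (Nat.ble 89088 i))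
noncomputable def nd81 (i : Nat) : Nat := (Bool.rec (motive := fun _ => Nat) (nl167 i) (nl168 i) (Nat.ble 95232 i))
noncomputable def nd82 (i : Nat) : Nat := (Bool.rec (motive := fun _ => Nat) (nl169 i) (nl170 i) (Nat.ble 97280 i))
noncomputable def nd83 (i : Nat) : Nat := (Bool.rec (motive := fun _ => Nat) (nl171 i) (nl172 i) (Nat.ble 99328 i))
noncomputable def nd84 (i : Nat) : Nat := (Bool.rec (motive := fun _ => Nat) (nl173 i) ((Bool.rec (motive := fun _ => Nat) (nl174 i) (nl175 i) (Nat.ble 102400 i))) (Nat.ble 101376 i))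
noncomputable def nd80 (i : Nat) : Nat := (Bool.rec (motive := fun _ => Nat) ((Bool.rec (motive := fun _ => Nat) (nd81 i) (nd82 i) (Nat.ble 96256 i))) ((Bool.rec (motive := fun _ => Nat) (nd83 i) (nd84 i) (Nat.ble 100352 i))) (Nat.ble 98304 i))
noncomputable def nd86 (i : Nat) : Nat := (Bool.rec (motive := fun _ => Nat) (nl176 i) (nl177 i) (Nat.ble 104448 i))
noncomputable def nd87 (i : Nat) : Nat := (Bool.rec (motive := fun _ => Nat) (nl178 i) ((Bool.rec (motive := fun _ => Nat) (nl179 i) (nl180 i) (Nat.ble 107520 i))) (Nat.ble 106496 i))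
noncomputable def nd88 (i : Nat) : Nat := (Bool.rec (motive := fun _ => Nat) (nl181 i) (nl182 i) (Nat.ble 109568 i))
noncomputable def nd89 (i : Nat) : Nat := (Bool.rec (motive := fun _ => Nat) (nl183 i) ((Bool.rec (motive := fun _ => Nat) (nl184 i) (nl185 i) (Nat.ble 112640 i))) (Nat.ble 111616 i))
noncomputable def nd85 (i : Nat) : Nat := (Bool.rec (motive := fun _ => Nat) ((Bool.rec (motive := fun _ => Nat) (nd86 i) (nd87 i) (Nat.ble 105472 i))) ((Bool.rec (motive := fun _ => Nat) (nd88 i) (nd89 i) (Nat.ble 110592 i))) (Nat.ble 108544 i))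
noncomputable def nd69 (i : Nat) : Nat := (Bool.rec (motive := fun _ => Nat) ((Bool.rec (motive := fun _ => Nat) (nd70 i) (nd75 i) (Nat.ble 84992 i))) ((Bool.rec (motive := fun _ => Nat) (nd80 i) (nd85 i) (Nat.ble 103424 i))) (Nat.ble 94208 i))
noncomputable def nd92 (i : Nat) : Nat := (Bool.rec (motive := fun _ => Nat) (nl186 i) (nl187 i) (Nat.ble 114688 i))
noncomputable def nd93 (i : Nat) : Nat := (Bool.rec (motive := fun _ => Nat) (nl188 i) (nl189 i) (Nat.ble 116736 i))
noncomputable def nd94 (i : Nat) : Nat := (Bool.rec (motive := fun _ => Nat) (nl190 i) (nl191 i) (Nat.ble 118784 i))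
noncomputable def nd95 (i : Nat) : Nat := (Bool.rec (motive := fun _ => Nat) (nl192 i) ((Bool.rec (motive := fun _ => Nat) (nl193 i) (nl194 i) (Nat.ble 121856 i))) (Nat.ble 120832 i))
noncomputable def nd91 (i : Nat) : Nat := (Bool.rec (motive := fun _ => Nat) ((Bool.rec (motive := fun _ => Nat) (nd92 i) (nd93 i) (Nat.ble 115712 i))) ((Bool.rec (motive := fun _ => Nat) (nd94 i) (nd95 i) (Nat.ble 119808 i))) (Nat.ble 117760 i))
noncomputable def nd97 (i : Nat) : Nat := (Bool.rec (motive := fun _ => Nat) (nl195 i) (nl196 i) (Nat.ble 123904 i))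
noncomputable def nd98 (i : Nat) : Nat := (Bool.rec (motive := fun _ => Nat) (nl197 i) (nl198 i) (Nat.ble 125952 i))
noncomputable def nd99 (i : Nat) : Nat := (Bool.rec (motive := fun _ => Nat) (nl199 i) (nl200 i) (Nat.ble 128000 i))
noncomputable def nd100 (i : Nat) : Nat := (Bool.rec (motive := fun _ => Nat) (nl201 i) ((Bool.rec (motive := fun _ => Nat) (nl202 i) (nl203 i) (Nat.ble 131072 i))) (Nat.ble 130048 i))
noncomputable def nd96 (i : Nat) : Nat := (Bool.rec (motive := fun _ => Nat) ((Bool.rec (motive := fun _ => Nat) (nd97 i) (nd98 i) (Nat.ble 124928 i))) ((Bool.rec (motive := fun _ => Nat) (nd99 i) (nd100 i) (Nat.ble 129024 i))) (Nat.ble 126976 i))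
noncomputable def nd102 (i : Nat) : Nat := (Bool.rec (motive := fun _ => Nat) (nl204 i) (nl205 i) (Nat.ble 133120 i))
noncomputable def nd103 (i : Nat) : Nat := (Bool.rec (motive := fun _ => Nat) (nl206 i) (nl207 i) (Nat.ble 135168 i))
noncomputable def nd104 (i : Nat) : Nat := (Bool.rec (motive := fun _ => Nat) (nl208 i) (nl209 i) (Nat.ble 137216 i))
noncomputable def nd105 (i : Nat) : Nat := (Bool.rec (motive := fun _ => Nat) (nl210 i) ((Bool.rec (motive := fun _ => Nat) (nl211 i) (nl212 i) (Nat.ble 140288 i))) (Nat.ble 139264 i))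
noncomputable def nd101 (i : Nat) : Nat := (Bool.rec (motive := fun _ => Nat) ((Bool.rec (motive := fun _ => Nat) (nd102 i) (nd103 i) (Nat.ble 134144 i))) ((Bool.rec (motive := fun _ => Nat) (nd104 i) (nd105 i) (Nat.ble 138240 i))) (Nat.ble 136192 i))
noncomputable def nd107 (i : Nat) : Nat := (Bool.rec (motive := fun _ => Nat) (nl213 i) (nl214 i) (Nat.ble 142336 i))
noncomputable def nd108 (i : Nat) : Nat := (Bool.rec (motive := fun _ => Nat) (nl215 i) ((Bool.rec (motive := fun _ => Nat) (nl216 i) (nl217 i) (Nat.ble 145408 i))) (Nat.ble 144384 i))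
noncomputable def nd109 (i : Nat) : Nat := (Bool.rec (motive := fun _ => Nat) (nl218 i) (nl219 i) (Nat.ble 147456 i))
noncomputable def nd110 (i : Nat) : Nat := (Bool.rec (motive := fun _ => Nat) (nl220 i) ((Bool.rec (motive := fun _ => Nat) (nl221 i) (nl222 i) (Nat.ble 150528 i))) (Nat.ble 149504 i))
noncomputable def nd106 (i : Nat) : Nat := (Bool.rec (motive := fun _ => Nat) ((Bool.rec (motive := fun _ => Nat) (nd107 i) (nd108 i) (Nat.ble 143360 i))) ((Bool.rec (motive := fun _ => Nat) (nd109 i) (nd110 i) (Nat.ble 148480 i))) (Nat.ble 146432 i))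
noncomputable def nd90 (i : Nat) : Nat := (Bool.rec (motive := fun _ => Nat) ((Bool.rec (motive := fun _ => Nat) (nd91 i) (nd96 i) (Nat.ble 122880 i))) ((Bool.rec (motive := fun _ => Nat) (nd101 i) (nd106 i) (Nat.ble 141312 i))) (Nat.ble 132096 i))
noncomputable def nd26 (i : Nat) : Nat := (Bool.rec (motive := fun _ => Nat) ((Bool.rec (motive := fun _ => Nat) (nd27 i) (nd48 i) (Nat.ble 37888 i))) ((Bool.rec (motive := fun _ => Nat) (nd69 i) (nd90 i) (Nat.ble 113664 i))) (Nat.ble 75776 i))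
noncomputable def nd112 (i : Nat) : Nat := (Bool.rec (motive := fun _ => Nat) (nl223 i) ((Bool.rec (motive := fun _ => Nat) (nl224 i) (nl225 i) (Nat.ble 2048 i))) (Nat.ble 1024 i))
noncomputable def nd113 (i : Nat) : Nat := (Bool.rec (motive := fun _ => Nat) ((Bool.rec (motive := fun _ => Nat) (nl226 i) (nl227 i) (Nat.ble 4096 i))) ((Bool.rec (motive := fun _ => Nat) (nl228 i) (nl229 i) (Nat.ble 6144 i))) (Nat.ble 5120 i))
noncomputable def nd114 (i : Nat) : Nat := (Bool.rec (motive := fun _ => Nat) ((Bool.rec (motive := fun _ => Nat) (nl230 i) (nl231 i) (Nat.ble 8192 i))) ((Bool.rec (motive := fun _ => Nat) (nl232 i) (nl233 i) (Nat.ble 10240 i))) (Nat.ble 9216 i))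
noncomputable def nd115 (i : Nat) : Nat := (Bool.rec (motive := fun _ => Nat) ((Bool.rec (motive := fun _ => Nat) (nl234 i) (nl235 i) (Nat.ble 12288 i))) ((Bool.rec (motive := fun _ => Nat) (nl236 i) (nl237 i) (Nat.ble 14336 i))) (Nat.ble 13312 i))
noncomputable def nd111 (i : Nat) : Nat := (Bool.rec (motive := fun _ => Nat) ((Bool.rec (motive := fun _ => Nat) (nd112 i) (nd113 i) (Nat.ble 3072 i))) ((Bool.rec (motive := fun _ => Nat) (nd114 i) (nd115 i) (Nat.ble 11264 i))) (Nat.ble 7168 i))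
noncomputable def nd117 (i : Nat) : Nat := (Bool.rec (motive := fun _ => Nat) (nl238 i) ((Bool.rec (motive := fun _ => Nat) (nl239 i) (nl240 i) (Nat.ble 2048 i))) (Nat.ble 1024 i))
noncomputable def nd118 (i : Nat) : Nat := (Bool.rec (motive := fun _ => Nat) ((Bool.rec (motive := fun _ => Nat) (nl241 i) (nl242 i) (Nat.ble 4096 i))) ((Bool.rec (motive := fun _ => Nat) (nl243 i) (nl244 i) (Nat.ble 6144 i))) (Nat.ble 5120 i))
noncomputable def nd119 (i : Nat) : Nat := (Bool.rec (motive := fun _ => Nat) ((Bool.rec (motive := fun _ => Nat) (nl245 i) (nl246 i) (Nat.ble 8192 i))) ((Bool.rec (motive := fun _ => Nat) (nl247 i) (nl248 i) (Nat.ble 10240 i))) (Nat.ble 9216 i))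
noncomputable def nd120 (i : Nat) : Nat := (Bool.rec (motive := fun _ => Nat) ((Bool.rec (motive := fun _ => Nat) (nl249 i) (nl250 i) (Nat.ble 12288 i))) ((Bool.rec (motive := fun _ => Nat) (nl251 i) (nl252 i) (Nat.ble 14336 i))) (Nat.ble 13312 i))
noncomputable def nd116 (i : Nat) : Nat := (Bool.rec (motive := fun _ => Nat) ((Bool.rec (motive := fun _ => Nat) (nd117 i) (nd118 i) (Nat.ble 3072 i))) ((Bool.rec (motive := fun _ => Nat) (nd119 i) (nd120 i) (Nat.ble 11264 i))) (Nat.ble 7168 i))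
noncomputable def nd122 (i : Nat) : Nat := (Bool.rec (motive := fun _ => Nat) (nl253 i) ((Bool.rec (motive := fun _ => Nat) (nl254 i) (nl255 i) (Nat.ble 2048 i))) (Nat.ble 1024 i))
noncomputable def nd123 (i : Nat) : Nat := (Bool.rec (motive := fun _ => Nat) ((Bool.rec (motive := fun _ => Nat) (nl256 i) (nl257 i) (Nat.ble 4096 i))) ((Bool.rec (motive := fun _ => Nat) (nl258 i) (nl259 i) (Nat.ble 6144 i))) (Nat.ble 5120 i))
noncomputable def nd124 (i : Nat) : Nat := (Bool.rec (motive := fun _ => Nat) ((Bool.rec (motive := fun _ => Nat) (nl260 i) (nl261 i) (Nat.ble 8192 i))) ((Bool.rec (motive := fun _ => Nat) (nl262 i) (nl263 i) (Nat.ble 10240 i))) (Nat.ble 9216 i))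
noncomputable def nd125 (i : Nat) : Nat := (Bool.rec (motive := fun _ => Nat) ((Bool.rec (motive := fun _ => Nat) (nl264 i) (nl265 i) (Nat.ble 12288 i))) ((Bool.rec (motive := fun _ => Nat) (nl266 i) (nl267 i) (Nat.ble 14336 i))) (Nat.ble 13312 i))
noncomputable def nd121 (i : Nat) : Nat := (Bool.rec (motive := fun _ => Nat) ((Bool.rec (motive := fun _ => Nat) (nd122 i) (nd123 i) (Nat.ble 3072 i))) ((Bool.rec (motive := fun _ => Nat) (nd124 i) (nd125 i) (Nat.ble 11264 i))) (Nat.ble 7168 i))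
noncomputable def nd127 (i : Nat) : Nat := (Bool.rec (motive := fun _ => Nat) (nl268 i) ((Bool.rec (motive := fun _ => Nat) (nl269 i) (nl270 i) (Nat.ble 2048 i))) (Nat.ble 1024 i))
noncomputable def nd128 (i : Nat) : Nat := (Bool.rec (motive := fun _ => Nat) ((Bool.rec (motive := fun _ => Nat) (nl271 i) (nl272 i) (Nat.ble 4096 i))) ((Bool.rec (motive := fun _ => Nat) (nl273 i) (nl274 i) (Nat.ble 6144 i))) (Nat.ble 5120 i))
noncomputable def nd129 (i : Nat) : Nat := (Bool.rec (motive := fun _ => Nat) ((Bool.rec (motive := fun _ => Nat) (nl275 i) (nl276 i) (Nat.ble 8192 i))) ((Bool.rec (motive := fun _ => Nat) (nl277 i) (nl278 i) (Nat.ble 10240 i))) (Nat.ble 9216 i))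
noncomputable def nd130 (i : Nat) : Nat := (Bool.rec (motive := fun _ => Nat) ((Bool.rec (motive := fun _ => Nat) (nl279 i) (nl280 i) (Nat.ble 12288 i))) ((Bool.rec (motive := fun _ => Nat) (nl281 i) (nl282 i) (Nat.ble 14336 i))) (Nat.ble 13312 i))
noncomputable def nd126 (i : Nat) : Nat := (Bool.rec (motive := fun _ => Nat) ((Bool.rec (motive := fun _ => Nat) (nd127 i) (nd128 i) (Nat.ble 3072 i))) ((Bool.rec (motive := fun _ => Nat) (nd129 i) (nd130 i) (Nat.ble 11264 i))) (Nat.ble 7168 i))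
noncomputable def nd132 (i : Nat) : Nat := (Bool.rec (motive := fun _ => Nat) (nl283 i) ((Bool.rec (motive := fun _ => Nat) (nl284 i) (nl285 i) (Nat.ble 2048 i))) (Nat.ble 1024 i))
noncomputable def nd133 (i : Nat) : Nat := (Bool.rec (motive := fun _ => Nat) ((Bool.rec (motive := fun _ => Nat) (nl286 i) (nl287 i) (Nat.ble 4096 i))) ((Bool.rec (motive := fun _ => Nat) (nl288 i) (nl289 i) (Nat.ble 6144 i))) (Nat.ble 5120 i))
noncomputable def nd134 (i : Nat) : Nat := (Bool.rec (motive := fun _ => Nat) ((Bool.rec (motive := fun _ => Nat) (nl290 i) (nl291 i) (Nat.ble 8192 i))) ((Bool.rec (motive := fun _ => Nat) (nl292 i) (nl293 i) (Nat.ble 10240 i))) (Nat.ble 9216 i))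
noncomputable def nd135 (i : Nat) : Nat := (Bool.rec (motive := fun _ => Nat) ((Bool.rec (motive := fun _ => Nat) (nl294 i) (nl295 i) (Nat.ble 12288 i))) ((Bool.rec (motive := fun _ => Nat) (nl296 i) (nl297 i) (Nat.ble 14336 i))) (Nat.ble 13312 i))
noncomputable def nd131 (i : Nat) : Nat := (Bool.rec (motive := fun _ => Nat) ((Bool.rec (motive := fun _ => Nat) (nd132 i) (nd133 i) (Nat.ble 3072 i))) ((Bool.rec (motive := fun _ => Nat) (nd134 i) (nd135 i) (Nat.ble 11264 i))) (Nat.ble 7168 i))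
noncomputable def nd137 (i : Nat) : Nat := (Bool.rec (motive := fun _ => Nat) (nl298 i) ((Bool.rec (motive := fun _ => Nat) (nl299 i) (nl300 i) (Nat.ble 2048 i))) (Nat.ble 1024 i))
noncomputable def nd138 (i : Nat) : Nat := (Bool.rec (motive := fun _ => Nat) ((Bool.rec (motive := fun _ => Nat) (nl301 i) (nl302 i) (Nat.ble 4096 i))) ((Bool.rec (motive := fun _ => Nat) (nl303 i) (nl304 i) (Nat.ble 6144 i))) (Nat.ble 5120 i))
noncomputable def nd139 (i : Nat) : Nat := (Bool.rec (motive := fun _ => Nat) ((Bool.rec (motive := fun _ => Nat) (nl305 i) (nl306 i) (Nat.ble 8192 i))) ((Bool.rec (motive := fun _ => Nat) (nl307 i) (nl308 i) (Nat.ble 10240 i))) (Nat.ble 9216 i))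
noncomputable def nd140 (i : Nat) : Nat := (Bool.rec (motive := fun _ => Nat) ((Bool.rec (motive := fun _ => Nat) (nl309 i) (nl310 i) (Nat.ble 12288 i))) ((Bool.rec (motive := fun _ => Nat) (nl311 i) (nl312 i) (Nat.ble 14336 i))) (Nat.ble 13312 i))
noncomputable def nd136 (i : Nat) : Nat := (Bool.rec (motive := fun _ => Nat) ((Bool.rec (motive := fun _ => Nat) (nd137 i) (nd138 i) (Nat.ble 3072 i))) ((Bool.rec (motive := fun _ => Nat) (nd139 i) (nd140 i) (Nat.ble 11264 i))) (Nat.ble 7168 i))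
noncomputable def nd142 (i : Nat) : Nat := (Bool.rec (motive := fun _ => Nat) (nl313 i) ((Bool.rec (motive := fun _ => Nat) (nl314 i) (nl315 i) (Nat.ble 2048 i))) (Nat.ble 1024 i))
noncomputable def nd143 (i : Nat) : Nat := (Bool.rec (motive := fun _ => Nat) ((Bool.rec (motive := fun _ => Nat) (nl316 i) (nl317 i) (Nat.ble 4096 i))) ((Bool.rec (motive := fun _ => Nat) (nl318 i) (nl319 i) (Nat.ble 6144 i))) (Nat.ble 5120 i))
noncomputable def nd144 (i : Nat) : Nat := (Bool.rec (motive := fun _ => Nat) ((Bool.rec (motive := fun _ => Nat) (nl320 i) (nl321 i) (Nat.ble 8192 i))) ((Bool.rec (motive := fun _ => Nat) (nl322 i) (nl323 i) (Nat.ble 10240 i))) (Nat.ble 9216 i))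
noncomputable def nd145 (i : Nat) : Nat := (Bool.rec (motive := fun _ => Nat) ((Bool.rec (motive := fun _ => Nat) (nl324 i) (nl325 i) (Nat.ble 12288 i))) ((Bool.rec (motive := fun _ => Nat) (nl326 i) (nl327 i) (Nat.ble 14336 i))) (Nat.ble 13312 i))
noncomputable def nd141 (i : Nat) : Nat := (Bool.rec (motive := fun _ => Nat) ((Bool.rec (motive := fun _ => Nat) (nd142 i) (nd143 i) (Nat.ble 3072 i))) ((Bool.rec (motive := fun _ => Nat) (nd144 i) (nd145 i) (Nat.ble 11264 i))) (Nat.ble 7168 i))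
noncomputable def nd147 (i : Nat) : Nat := (Bool.rec (motive := fun _ => Nat) (nl328 i) ((Bool.rec (motive := fun _ => Nat) (nl329 i) (nl330 i) (Nat.ble 2048 i))) (Nat.ble 1024 i))
noncomputable def nd148 (i : Nat) : Nat := (Bool.rec (motive := fun _ => Nat) ((Bool.rec (motive := fun _ => Nat) (nl331 i) (nl332 i) (Nat.ble 4096 i))) ((Bool.rec (motive := fun _ => Nat) (nl333 i) (nl334 i) (Nat.ble 6144 i))) (Nat.ble 5120 i))
noncomputable def nd149 (i : Nat) : Nat := (Bool.rec (motive := fun _ => Nat) ((Bool.rec (motive := fun _ => Nat) (nl335 i) (nl336 i) (Nat.ble 8192 i))) ((Bool.rec (motive := fun _ => Nat) (nl337 i) (nl338 i) (Nat.ble 10240 i))) (Nat.ble 9216 i))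
noncomputable def nd150 (i : Nat) : Nat := (Bool.rec (motive := fun _ => Nat) ((Bool.rec (motive := fun _ => Nat) (nl339 i) (nl340 i) (Nat.ble 12288 i))) ((Bool.rec (motive := fun _ => Nat) (nl341 i) (nl342 i) (Nat.ble 14336 i))) (Nat.ble 13312 i))
noncomputable def nd146 (i : Nat) : Nat := (Bool.rec (motive := fun _ => Nat) ((Bool.rec (motive := fun _ => Nat) (nd147 i) (nd148 i) (Nat.ble 3072 i))) ((Bool.rec (motive := fun _ => Nat) (nd149 i) (nd150 i) (Nat.ble 11264 i))) (Nat.ble 7168 i))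
noncomputable def nd152 (i : Nat) : Nat := (Bool.rec (motive := fun _ => Nat) (nl343 i) ((Bool.rec (motive := fun _ => Nat) (nl344 i) (nl345 i) (Nat.ble 2048 i))) (Nat.ble 1024 i))
noncomputable def nd153 (i : Nat) : Nat := (Bool.rec (motive := fun _ => Nat) ((Bool.rec (motive := fun _ => Nat) (nl346 i) (nl347 i) (Nat.ble 4096 i))) ((Bool.rec (motive := fun _ => Nat) (nl348 i) (nl349 i) (Nat.ble 6144 i))) (Nat.ble 5120 i))
noncomputable def nd154 (i : Nat) : Nat := (Bool.rec (motive := fun _ => Nat) ((Bool.rec (motive := fun _ => Nat) (nl350 i) (nl351 i) (Nat.ble 8192 i))) ((Bool.rec (motive := fun _ => Nat) (nl352 i) (nl353 i) (Nat.ble 10240 i))) (Nat.ble 9216 i))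
noncomputable def nd155 (i : Nat) : Nat := (Bool.rec (motive := fun _ => Nat) ((Bool.rec (motive := fun _ => Nat) (nl354 i) (nl355 i) (Nat.ble 12288 i))) ((Bool.rec (motive := fun _ => Nat) (nl356 i) (nl357 i) (Nat.ble 14336 i))) (Nat.ble 13312 i))
noncomputable def nd151 (i : Nat) : Nat := (Bool.rec (motive := fun _ => Nat) ((Bool.rec (motive := fun _ => Nat) (nd152 i) (nd153 i) (Nat.ble 3072 i))) ((Bool.rec (motive := fun _ => Nat) (nd154 i) (nd155 i) (Nat.ble 11264 i))) (Nat.ble 7168 i))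
noncomputable def nd157 (i : Nat) : Nat := (Bool.rec (motive := fun _ => Nat) (nl358 i) ((Bool.rec (motive := fun _ => Nat) (nl359 i) (nl360 i) (Nat.ble 2048 i))) (Nat.ble 1024 i))
noncomputable def nd158 (i : Nat) : Nat := (Bool.rec (motive := fun _ => Nat) ((Bool.rec (motive := fun _ => Nat) (nl361 i) (nl362 i) (Nat.ble 4096 i))) ((Bool.rec (motive := fun _ => Nat) (nl363 i) (nl364 i) (Nat.ble 6144 i))) (Nat.ble 5120 i))
noncomputable def nd159 (i : Nat) : Nat := (Bool.rec (motive := fun _ => Nat) ((Bool.rec (motive := fun _ => Nat) (nl365 i) (nl366 i) (Nat.ble 8192 i))) ((Bool.rec (motive := fun _ => Nat) (nl367 i) (nl368 i) (Nat.ble 10240 i))) (Nat.ble 9216 i))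
noncomputable def nd160 (i : Nat) : Nat := (Bool.rec (motive := fun _ => Nat) ((Bool.rec (motive := fun _ => Nat) (nl369 i) (nl370 i) (Nat.ble 12288 i))) ((Bool.rec (motive := fun _ => Nat) (nl371 i) (nl372 i) (Nat.ble 14336 i))) (Nat.ble 13312 i))
noncomputable def nd156 (i : Nat) : Nat := (Bool.rec (motive := fun _ => Nat) ((Bool.rec (motive := fun _ => Nat) (nd157 i) (nd158 i) (Nat.ble 3072 i))) ((Bool.rec (motive := fun _ => Nat) (nd159 i) (nd160 i) (Nat.ble 11264 i))) (Nat.ble 7168 i))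
noncomputable def nd162 (i : Nat) : Nat := (Bool.rec (motive := fun _ => Nat) (nl373 i) ((Bool.rec (motive := fun _ => Nat) (nl374 i) (nl375 i) (Nat.ble 2048 i))) (Nat.ble 1024 i))
noncomputable def nd163 (i : Nat) : Nat := (Bool.rec (motive := fun _ => Nat) ((Bool.rec (motive := fun _ => Nat) (nl376 i) (nl377 i) (Nat.ble 4096 i))) ((Bool.rec (motive := fun _ => Nat) (nl378 i) (nl379 i) (Nat.ble 6144 i))) (Nat.ble 5120 i))
noncomputable def nd164 (i : Nat) : Nat := (Bool.rec (motive := fun _ => Nat) ((Bool.rec (motive := fun _ => Nat) (nl380 i) (nl381 i) (Nat.ble 8192 i))) ((Bool.rec (motive := fun _ => Nat) (nl382 i) (nl383 i) (Nat.ble 10240 i))) (Nat.ble 9216 i))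
noncomputable def nd165 (i : Nat) : Nat := (Bool.rec (motive := fun _ => Nat) ((Bool.rec (motive := fun _ => Nat) (nl384 i) (nl385 i) (Nat.ble 12288 i))) ((Bool.rec (motive := fun _ => Nat) (nl386 i) (nl387 i) (Nat.ble 14336 i))) (Nat.ble 13312 i))
noncomputable def nd161 (i : Nat) : Nat := (Bool.rec (motive := fun _ => Nat) ((Bool.rec (motive := fun _ => Nat) (nd162 i) (nd163 i) (Nat.ble 3072 i))) ((Bool.rec (motive := fun _ => Nat) (nd164 i) (nd165 i) (Nat.ble 11264 i))) (Nat.ble 7168 i))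
noncomputable def wd168 (i : Nat) : List Nat := (Bool.rec (motive := fun _ => List Nat) ([0, 0]) ([0, 2, 0, 2, 0, 2, 0, 2]) (Nat.ble 1 i))
noncomputable def wd169 (i : Nat) : List Nat := (Bool.rec (motive := fun _ => List Nat) ([0, 4, 0, 4]) ([0, 6, 0, 6]) (Nat.ble 3 i))
noncomputable def wd170 (i : Nat) : List Nat := (Bool.rec (motive := fun _ => List Nat) ([0, 8, 0, 8]) ([2, 0, 2, 0, 2, 0, 2, 0]) (Nat.ble 5 i))
noncomputable def wd171 (i : Nat) : List Nat := (Bool.rec (motive := fun _ => List Nat) ([2, 2]) ((Bool.rec (motive := fun _ => List Nat) ([2, 4, 2, 4, 2, 4]) ([2, 6, 2, 6]) (Nat.ble 8 i))) (Nat.ble 7 i))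
noncomputable def wd167 (i : Nat) : List Nat := (Bool.rec (motive := fun _ => List Nat) ((Bool.rec (motive := fun _ => List Nat) (wd168 i) (wd169 i) (Nat.ble 2 i))) ((Bool.rec (motive := fun _ => List Nat) (wd170 i) (wd171 i) (Nat.ble 6 i))) (Nat.ble 4 i))
noncomputable def wd173 (i : Nat) : List Nat := (Bool.rec (motive := fun _ => List Nat) ([2, 8, 2, 8]) ([4, 0, 4, 0]) (Nat.ble 10 i))
noncomputable def wd174 (i : Nat) : List Nat := (Bool.rec (motive := fun _ => List Nat) ([4, 2, 4, 2, 4, 2]) ((Bool.rec (motive := fun _ => List Nat) ([4, 4]) ([4, 6, 4, 6, 4, 6, 4, 6, 4, 6, 4, 6, 4, 6, 4, 6, 4, 6, 4, 6]) (Nat.ble 13 i))) (Nat.ble 12 i))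
noncomputable def wd175 (i : Nat) : List Nat := (Bool.rec (motive := fun _ => List Nat) ([4, 8, 4, 8]) ([6, 0, 6, 0]) (Nat.ble 15 i))
noncomputable def wd176 (i : Nat) : List Nat := (Bool.rec (motive := fun _ => List Nat) ([6, 2, 6, 2]) ((Bool.rec (motive := fun _ => List Nat) ([6, 4, 6, 4, 6, 4, 6, 4, 6, 4, 6, 4, 6, 4, 6, 4, 6, 4, 6, 4]) ([6, 6]) (Nat.ble 18 i))) (Nat.ble 17 i))
noncomputable def wd172 (i : Nat) : List Nat := (Bool.rec (motive := fun _ => List Nat) ((Bool.rec (motive := fun _ => List Nat) (wd173 i) (wd174 i) (Nat.ble 11 i))) ((Bool.rec (motive := fun _ => List Nat) (wd175 i) (wd176 i) (Nat.ble 16 i))) (Nat.ble 14 i))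
noncomputable def wd178 (i : Nat) : List Nat := (Bool.rec (motive := fun _ => List Nat) ([6, 8, 6, 8, 6, 8]) ([8, 0, 8, 0]) (Nat.ble 20 i))
noncomputable def wd179 (i : Nat) : List Nat := (Bool.rec (motive := fun _ => List Nat) ([8, 2, 8, 2]) ([8, 4, 8, 4]) (Nat.ble 22 i))
noncomputable def wd180 (i : Nat) : List Nat := (Bool.rec (motive := fun _ => List Nat) ([8, 6, 8, 6, 8, 6]) ([8, 8]) (Nat.ble 24 i))
noncomputable def wd181 (i : Nat) : List Nat := (Bool.rec (motive := fun _ => List Nat) ([8, 5, 3, 1, 5, 3, 1, 5, 3, 1]) ((Bool.rec (motive := fun _ => List Nat) ([0, 7, 5, 7, 5, 7, 5, 7, 5, 7, 5]) ([0, 1]) (Nat.ble 27 i))) (Nat.ble 26 i))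
noncomputable def wd177 (i : Nat) : List Nat := (Bool.rec (motive := fun _ => List Nat) ((Bool.rec (motive := fun _ => List Nat) (wd178 i) (wd179 i) (Nat.ble 21 i))) ((Bool.rec (motive := fun _ => List Nat) (wd180 i) (wd181 i) (Nat.ble 25 i))) (Nat.ble 23 i))
noncomputable def wd183 (i : Nat) : List Nat := (Bool.rec (motive := fun _ => List Nat) ([1, 0]) ([2, 3]) (Nat.ble 29 i))
noncomputable def wd184 (i : Nat) : List Nat := (Bool.rec (motive := fun _ => List Nat) ([3, 2]) ((Bool.rec (motive := fun _ => List Nat) ([4, 5]) ([5, 4]) (Nat.ble 32 i))) (Nat.ble 31 i))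
noncomputable def wd185 (i : Nat) : List Nat := (Bool.rec (motive := fun _ => List Nat) ([6, 7]) ([7, 6]) (Nat.ble 34 i))
noncomputable def wd186 (i : Nat) : List Nat := (Bool.rec (motive := fun _ => List Nat) ([8, 9]) ((Bool.rec (motive := fun _ => List Nat) ([9, 8]) ([]) (Nat.ble 37 i))) (Nat.ble 36 i))
noncomputable def wd182 (i : Nat) : List Nat := (Bool.rec (motive := fun _ => List Nat) ((Bool.rec (motive := fun _ => List Nat) (wd183 i) (wd184 i) (Nat.ble 30 i))) ((Bool.rec (motive := fun _ => List Nat) (wd185 i) (wd186 i) (Nat.ble 35 i))) (Nat.ble 33 i))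
noncomputable def wd166 (i : Nat) : List Nat := (Bool.rec (motive := fun _ => List Nat) ((Bool.rec (motive := fun _ => List Nat) (wd167 i) (wd172 i) (Nat.ble 9 i))) ((Bool.rec (motive := fun _ => List Nat) (wd177 i) (wd182 i) (Nat.ble 28 i))) (Nat.ble 19 i))
/-- the table of the letter `l` -/
noncomputable def letSel (l : Nat) : Nat → Nat := (Bool.rec (motive := fun _ => Nat → Nat) ((Bool.rec (motive := fun _ => Nat → Nat) ((Bool.rec (motive := fun _ => Nat → Nat) (nd116) (nd121) (Nat.ble 1 l))) ((Bool.rec (motive := fun _ => Nat → Nat) (nd126) ((Bool.rec (motive := fun _ => Nat → Nat) (nd131) (nd136) (Nat.ble 4 l))) (Nat.ble 3 l))) (Nat.ble 2 l))) ((Bool.rec (motive := fun _ => Nat → Nat) ((Bool.rec (motive := fun _ => Nat → Nat) (nd141) (nd146) (Nat.ble 6 l))) ((Bool.rec (motive := fun _ => Nat → Nat) (nd151) ((Bool.rec (motive := fun _ => Nat → Nat) (nd156) (nd161) (Nat.ble 9 l))) (Nat.ble 8 l))) (Nat.ble 7 l))) (Nat.ble 5 l))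
noncomputable def tabs : Tabs where
  M := 15262
  nsub := 0
  nwords := 38
  word := wd166
  defn := nd21
  fact := nd0
noncomputable def ptabs : PTabs where
  n := 15120
  L := 10
  perm := fun l i => letSel l i
  fin := fun i l => nd26 (Nat.add (Nat.mul i 10) l)
  par := nd111
theorem perm_eq : ∀ l i, ptabs.perm l i = letSel l i := fun _ _ => rfl
end Cfsg.Agent.Helper28.HeP1
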